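import Mathlib

/-!
# Fixed points of products of conjugates in `Perm (Fin n)`

Basic vocabulary (`fx`), extension of partial injections to (even) permutations,
and the averaging identity for the number of fixed points of `a * (h b h⁻¹)` over `h ∈ A_n`.
-/

set_option autoImplicit false

namespace Cfsg.Agent.Lib.Helper5.PermFix

open Equiv Finset

variable {n : ℕ}

/-- number of fixed points -/
def fx (σ : Perm (Fin n)) : ℕ := (univ.filter fun x => σ x = x).card

lemma card_fixedPoints (σ : Perm (Fin n)) : Nat.card (Function.fixedPoints ⇑σ) = fx σ := by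
  classical
  rw [Nat.card_coe_set_eq, Set.ncard_eq_toFinset_card']
  unfold fx
  congr 1
  ext x
  rw [Set.mem_toFinset, mem_filter]
  simp [Function.fixedPoints, Function.IsFixedPt]

lemma fx_mul_comm (x y : Perm (Fin n)) : fx (x * y) = fx (y * x) := by
  unfold fx
  refine Finset.card_equiv y (fun z => ?_)
  rw [mem_filter, mem_filter]
  simp only [mem_univ, true_and, Perm.mul_apply]
  constructor
  · intro hz; rw [hz]
  · intro hz; exact y.injective hz

lemma fx_conj (g x : Perm (Fin n)) : fx (g * x * g⁻¹) = fx x := by
  rw [fx_mul_comm, ← mul_assoc, inv_mul_cancel, one_mul]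

lemma fx_add_moved (σ : Perm (Fin n)) :
    fx σ + (univ.filter fun x => ¬ σ x = x).card = n := by
  unfold fx
  rw [Finset.card_filter_add_card_filter_not, Finset.card_univ, Fintype.card_fin]

lemma fx_add_two_le {σ : Perm (Fin n)} (hσ : σ ≠ 1) : fx σ + 2 ≤ n := by
  have h := fx_add_moved σ
  have : ∃ x, σ x ≠ x := by
    by_contra hcon
    push Not at hcon
    exact hσ (Equiv.ext hcon)
  obtain ⟨x, hx⟩ := this
  have h2 : 1 < (univ.filter fun x => ¬ σ x = x).card := by
    rw [Finset.one_lt_card]
    refine ⟨x, by simpa using hx, σ x, ?_, fun h => hx h.symm⟩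
    simp only [mem_filter, mem_univ, true_and]
    intro h
    exact hx (σ.injective h)
  omega

/-- extension of a partial injection to a permutation -/
lemma exists_perm_extend (D : Finset (Fin n)) (f : Fin n → Fin n) (hf : Set.InjOn f D) :
    ∃ h : Perm (Fin n), ∀ i ∈ D, h i = f i := by
  obtain ⟨σ, hσ⟩ := Equiv.Perm.exists_extending_pair (fun i : D => (i : Fin n))
    (fun i : D => f i) Subtype.val_injective (fun i j hij => Subtype.ext (hf i.2 j.2 hij))
  exact ⟨σ, fun i hi => hσ ⟨i, hi⟩⟩

/-- extension of a partial injection on at most `n - 2` points to an even permutation -/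
lemma exists_even_extend (D : Finset (Fin n)) (f : Fin n → Fin n) (hf : Set.InjOn f D)
    (hD : D.card + 2 ≤ n) :
    ∃ h : Perm (Fin n), h ∈ alternatingGroup (Fin n) ∧ ∀ i ∈ D, h i = f i := by
  obtain ⟨σ, hσ⟩ := exists_perm_extend D f hf
  rcases Int.units_eq_one_or (Equiv.Perm.sign σ) with h | h
  · exact ⟨σ, h, hσ⟩
  · have hc : 1 < Dᶜ.card := by
      rw [Finset.card_compl, Fintype.card_fin]; omega
    obtain ⟨u, hu, v, hv, huv⟩ := Finset.one_lt_card.mp hc
    rw [Finset.mem_compl] at hu hv
    refine ⟨σ * Equiv.swap u v, ?_, fun i hi => ?_⟩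
    · rw [Equiv.Perm.mem_alternatingGroup, Equiv.Perm.sign_mul, h, Equiv.Perm.sign_swap huv]
      rfl
    · rw [Equiv.Perm.mul_apply, Equiv.swap_apply_of_ne_of_ne, hσ i hi]
      · rintro rfl; exact hu hi
      · rintro rfl; exact hv hi

/-- the alternating group on `Fin n` as a type -/
abbrev An (n : ℕ) := alternatingGroup (Fin n)

/-- 2-transitivity of `A_n`, `n ≥ 4`, in elementary form -/
lemma exists_even_two (hn : 4 ≤ n) {x x' y y' : Fin n} (hx : x ≠ x') (hy : y ≠ y') :
    ∃ k : Perm (Fin n), k ∈ alternatingGroup (Fin n) ∧ k x = y ∧ k x' = y' := by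
  obtain ⟨k, hk, hk2⟩ := exists_even_extend ({x, x'} : Finset (Fin n))
    (fun i => if i = x then y else y') (by
      intro i hi j hj hij
      simp only [coe_insert, coe_singleton, Set.mem_insert_iff, Set.mem_singleton_iff] at hi hj
      rcases hi with rfl | rfl <;> rcases hj with rfl | rfl
      · rfl
      · exfalso
        have h1 : ¬ (j = i) := fun h => hx h.symm
        simp only [if_true, if_neg h1] at hij
        exact hy hij
      · exfalso
        have h1 : ¬ (i = j) := fun h => hx h.symm
        simp only [if_true, if_neg h1] at hij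
        exact hy hij.symm
      · rfl)
    (by rw [Finset.card_pair hx]; omega)
  refine ⟨k, hk, ?_, ?_⟩
  · simpa using hk2 x (by simp)
  · have := hk2 x' (by simp)
    simpa [hx.symm] using this

/-- transitivity of `A_n`, `n ≥ 3` -/
lemma exists_even_one (hn : 3 ≤ n) (x y : Fin n) :
    ∃ k : Perm (Fin n), k ∈ alternatingGroup (Fin n) ∧ k x = y := by
  obtain ⟨k, hk, hk2⟩ := exists_even_extend ({x} : Finset (Fin n))
    (fun _ => y) (by
      intro i hi j hj _
      simp only [coe_singleton, Set.mem_singleton_iff] at hi hj
      rw [hi, hj])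
    (by rw [Finset.card_singleton]; omega)
  exact ⟨k, hk, hk2 x (by simp)⟩

lemma card_two_point (hn : 4 ≤ n) {x x' y y' : Fin n} (hx : x ≠ x') (hy : y ≠ y') :
    (n * (n - 1)) * (univ.filter fun h : An n =>
        (h : Perm (Fin n)) y = x ∧ (h : Perm (Fin n)) y' = x').card
      = Fintype.card (An n) := by
  classical
  set φ : An n → Fin n × Fin n := fun h => ((h : Perm (Fin n)) y, (h : Perm (Fin n)) y') with hφ
  have hmaps : ∀ h ∈ (univ : Finset (An n)), φ h ∈ (univ : Finset (Fin n)).offDiag := by
    intro h _
    rw [Finset.mem_offDiag]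
    exact ⟨mem_univ _, mem_univ _, fun hh => hy ((h : Perm (Fin n)).injective hh)⟩
  have hsum := Finset.card_eq_sum_card_fiberwise hmaps
  have hconst : ∀ p ∈ (univ : Finset (Fin n)).offDiag,
      (univ.filter fun h : An n => φ h = p).card
        = (univ.filter fun h : An n => φ h = (x, x')).card := by
    intro p hp
    rw [Finset.mem_offDiag] at hp
    obtain ⟨k, hk, hk1, hk2⟩ := exists_even_two hn hp.2.2 hx
    refine Finset.card_equiv (Equiv.mulLeft (⟨k, hk⟩ : An n)) (fun h => ?_)
    rw [mem_filter, mem_filter]
    simp only [mem_univ, true_and, hφ, Equiv.coe_mulLeft, Subgroup.coe_mul, Perm.mul_apply,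
      Prod.mk.injEq]
    constructor
    · rintro h1
      have e1 : (h : Perm (Fin n)) y = p.1 := congrArg Prod.fst h1
      have e2 : (h : Perm (Fin n)) y' = p.2 := congrArg Prod.snd h1
      rw [e1, e2]; exact ⟨hk1, hk2⟩
    · rintro ⟨e1, e2⟩
      have e1' := k.injective (e1.trans hk1.symm)
      have e2' := k.injective (e2.trans hk2.symm)
      exact Prod.ext e1' e2'
  rw [Finset.sum_congr rfl hconst, Finset.sum_const, Finset.offDiag_card, Finset.card_univ,
    Finset.card_univ, Fintype.card_fin, smul_eq_mul] at hsum
  rw [hsum]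
  have : n * n - n = n * (n - 1) := by rw [Nat.mul_sub_one]
  rw [this]
  congr 2
  ext h
  simp [hφ]

lemma card_one_point (hn : 3 ≤ n) (x y : Fin n) :
    n * (univ.filter fun h : An n => (h : Perm (Fin n)) y = x).card
      = Fintype.card (An n) := by
  classical
  have hmaps : ∀ h ∈ (univ : Finset (An n)), (h : Perm (Fin n)) y ∈ (univ : Finset (Fin n)) :=
    fun _ _ => mem_univ _
  have hsum := Finset.card_eq_sum_card_fiberwise hmaps
  have hconst : ∀ p ∈ (univ : Finset (Fin n)),
      (univ.filter fun h : An n => (h : Perm (Fin n)) y = p).card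
        = (univ.filter fun h : An n => (h : Perm (Fin n)) y = x).card := by
    intro p _
    obtain ⟨k, hk, hk1⟩ := exists_even_one hn p x
    refine Finset.card_equiv (Equiv.mulLeft (⟨k, hk⟩ : An n)) (fun h => ?_)
    rw [mem_filter, mem_filter]
    simp only [mem_univ, true_and, Equiv.coe_mulLeft, Subgroup.coe_mul, Perm.mul_apply]
    constructor
    · intro e1; rw [e1]; exact hk1
    · intro e1; exact k.injective (e1.trans hk1.symm)
  rw [Finset.sum_congr rfl hconst, Finset.sum_const, Finset.card_univ,
    Finset.card_univ, Fintype.card_fin, smul_eq_mul] at hsum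
  rw [hsum]

lemma moved_card (σ : Perm (Fin n)) : (univ.filter fun x => ¬ σ x = x).card = n - fx σ := by
  have := fx_add_moved σ
  omega

/-- the count, for fixed `y`, of even `h` with `a (h (b y)) = h y` -/
lemma count_y (hn : 4 ≤ n) (a b : Perm (Fin n)) (y : Fin n) :
    (n * (n - 1)) * (univ.filter fun h : An n =>
        a ((h : Perm (Fin n)) (b y)) = (h : Perm (Fin n)) y).card
      = Fintype.card (An n) * (if b y = y then fx a * (n - 1) else n - fx a) := by
  classical
  have hmaps : ∀ h ∈ (univ.filter fun h : An n =>
      a ((h : Perm (Fin n)) (b y)) = (h : Perm (Fin n)) y),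
      (h : Perm (Fin n)) y ∈ (univ : Finset (Fin n)) := fun _ _ => mem_univ _
  rw [Finset.card_eq_sum_card_fiberwise hmaps, Finset.mul_sum]
  by_cases hby : b y = y
  · rw [if_pos hby]
    have hterm : ∀ x ∈ (univ : Finset (Fin n)),
        n * (n - 1) * ((univ.filter fun h : An n =>
          a ((h : Perm (Fin n)) (b y)) = (h : Perm (Fin n)) y).filter
            (fun h : An n => (h : Perm (Fin n)) y = x)).card
        = Fintype.card (An n) * (if a x = x then (n - 1) else 0) := by
      intro x _
      rw [Finset.filter_filter]
      by_cases hax : a x = x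
      · rw [if_pos hax]
        have : (univ.filter fun h : An n =>
            a ((h : Perm (Fin n)) (b y)) = (h : Perm (Fin n)) y ∧ (h : Perm (Fin n)) y = x)
            = univ.filter fun h : An n => (h : Perm (Fin n)) y = x := by
          ext h
          simp only [mem_filter, mem_univ, true_and]
          constructor
          · exact fun h1 => h1.2
          · intro h1
            refine ⟨?_, h1⟩
            rw [hby, h1, hax]
        rw [this, ← card_one_point (by omega) x y]
        ring
      · rw [if_neg hax, mul_zero]
        have : (univ.filter fun h : An n =>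
            a ((h : Perm (Fin n)) (b y)) = (h : Perm (Fin n)) y ∧ (h : Perm (Fin n)) y = x)
            = ∅ := by
          ext h
          simp only [mem_filter, mem_univ, true_and, notMem_empty, iff_false, not_and]
          intro h1 h2
          rw [hby, h2] at h1
          exact hax h1
        rw [this, card_empty, mul_zero]
    rw [Finset.sum_congr rfl hterm, ← Finset.mul_sum, Finset.sum_ite, sum_const_zero, add_zero,
      sum_const, smul_eq_mul]
    rfl
  · rw [if_neg hby]
    have hterm : ∀ x ∈ (univ : Finset (Fin n)),
        n * (n - 1) * ((univ.filter fun h : An n =>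
          a ((h : Perm (Fin n)) (b y)) = (h : Perm (Fin n)) y).filter
            (fun h : An n => (h : Perm (Fin n)) y = x)).card
        = Fintype.card (An n) * (if ¬ a x = x then 1 else 0) := by
      intro x _
      rw [Finset.filter_filter]
      by_cases hax : a x = x
      · rw [if_neg (not_not.mpr hax), mul_zero]
        have : (univ.filter fun h : An n =>
            a ((h : Perm (Fin n)) (b y)) = (h : Perm (Fin n)) y ∧ (h : Perm (Fin n)) y = x)
            = ∅ := by
          ext h
          simp only [mem_filter, mem_univ, true_and, notMem_empty, iff_false, not_and]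
          intro h1 h2
          rw [h2] at h1
          have h3 : (h : Perm (Fin n)) (b y) = x := a.injective (h1.trans hax.symm)
          exact hby ((h : Perm (Fin n)).injective (h3.trans h2.symm))
        rw [this, card_empty, mul_zero]
      · rw [if_pos hax, mul_one]
        have hx' : x ≠ a⁻¹ x := by
          intro h
          apply hax
          conv_lhs => rw [h]
          simp
        have : (univ.filter fun h : An n =>
            a ((h : Perm (Fin n)) (b y)) = (h : Perm (Fin n)) y ∧ (h : Perm (Fin n)) y = x)
            = univ.filter fun h : An n =>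
              (h : Perm (Fin n)) y = x ∧ (h : Perm (Fin n)) (b y) = a⁻¹ x := by
          ext h
          simp only [mem_filter, mem_univ, true_and]
          constructor
          · rintro ⟨h1, h2⟩
            refine ⟨h2, ?_⟩
            rw [h2] at h1
            rw [← h1]; simp
          · rintro ⟨h1, h2⟩
            refine ⟨?_, h1⟩
            rw [h2, h1]; simp
        rw [this]
        exact card_two_point hn hx' (fun h => hby h.symm)
    rw [Finset.sum_congr rfl hterm, ← Finset.mul_sum, Finset.sum_ite, sum_const_zero, add_zero,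
      sum_const, smul_eq_mul, mul_one, moved_card]

/-- step A: fixed points of `a * (h b h⁻¹)` counted through `y = h⁻¹ x` -/
lemma fx_conj_eq (a b h : Perm (Fin n)) :
    fx (a * (h * b * h⁻¹)) = (univ.filter fun y => a (h (b y)) = h y).card := by
  unfold fx
  refine Finset.card_equiv h⁻¹ (fun z => ?_)
  rw [mem_filter, mem_filter]
  simp only [mem_univ, true_and, Perm.mul_apply]
  have : h (h⁻¹ z) = z := by simp
  rw [this]

/-- the averaging identity -/
lemma avg (hn : 4 ≤ n) (a b : Perm (Fin n)) :
    (∑ h : An n, fx (a * ((h : Perm (Fin n)) * b * (h : Perm (Fin n))⁻¹))) * (n * (n - 1))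
      = Fintype.card (An n) * (fx a * fx b * (n - 1) + (n - fx a) * (n - fx b)) := by
  classical
  have h1 : ∀ h : An n, fx (a * ((h : Perm (Fin n)) * b * (h : Perm (Fin n))⁻¹))
      = ∑ y : Fin n, if a ((h : Perm (Fin n)) (b y)) = (h : Perm (Fin n)) y then 1 else 0 := by
    intro h
    rw [fx_conj_eq, Finset.card_filter]
  simp_rw [h1]
  rw [Finset.sum_comm]
  have h2 : ∀ y : Fin n, (∑ h : An n,
      if a ((h : Perm (Fin n)) (b y)) = (h : Perm (Fin n)) y then 1 else 0)
      = (univ.filter fun h : An n =>
        a ((h : Perm (Fin n)) (b y)) = (h : Perm (Fin n)) y).card := by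
    intro y
    rw [Finset.card_filter]
  simp_rw [h2]
  rw [Finset.sum_mul]
  have h3 : ∀ y ∈ (univ : Finset (Fin n)), (univ.filter fun h : An n =>
        a ((h : Perm (Fin n)) (b y)) = (h : Perm (Fin n)) y).card * (n * (n - 1))
      = Fintype.card (An n) * (if b y = y then fx a * (n - 1) else n - fx a) := by
    intro y _
    rw [mul_comm]
    exact count_y hn a b y
  rw [Finset.sum_congr rfl h3, ← Finset.mul_sum, Finset.sum_ite, sum_const, sum_const,
    smul_eq_mul, smul_eq_mul, moved_card]
  congr 1
  unfold fx
  ring

end Cfsg.Agent.Lib.Helper5.PermFix
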