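import Cfsg.Agent.Lib.Helper5.Perm.FixAvg

/-!
# Special configurations of conjugates with many common fixed points
-/

set_option autoImplicit false

namespace Cfsg.Agent.Lib.Helper5.PermFix

open Equiv Finset

variable {n : ℕ}

lemma mem_fx_iff (σ : Perm (Fin n)) (x : Fin n) :
    x ∈ (univ.filter fun x => σ x = x) ↔ σ x = x := by
  rw [mem_filter]; simp

lemma two_le_fx {σ : Perm (Fin n)} {x y : Fin n} (hxy : x ≠ y) (hx : σ x = x) (hy : σ y = y) :
    2 ≤ fx σ := by
  unfold fx
  have : 1 < (univ.filter fun x => σ x = x).card := by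
    rw [Finset.one_lt_card]
    exact ⟨x, (mem_fx_iff σ x).mpr hx, y, (mem_fx_iff σ y).mpr hy, hxy⟩
  omega

/-- value of a conjugate at a point hit by `h` -/
lemma conj_apply_of_eq (h b : Perm (Fin n)) {y x : Fin n} (hy : h y = x) :
    (h * b * h⁻¹) x = h (b y) := by
  rw [Perm.mul_apply, Perm.mul_apply]
  have : h⁻¹ x = y := by rw [← hy]; simp
  rw [this]

/-- nested fixed point sets -/
lemma config_nested (a b : Perm (Fin n)) (hb : b ≠ 1) (hle : fx b ≤ fx a) :
    ∃ h : Perm (Fin n), h ∈ alternatingGroup (Fin n) ∧ fx b ≤ fx (a * (h * b * h⁻¹)) := by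
  classical
  set S := univ.filter fun x => b x = x with hS
  set T := univ.filter fun x => a x = x with hT
  obtain ⟨T', hT'sub, hT'card⟩ := Finset.exists_subset_card_eq (s := T) (n := S.card) hle
  let e : S ≃ T' := Finset.equivOfCardEq hT'card.symm
  let f : Fin n → Fin n := fun i => if hi : i ∈ S then (e ⟨i, hi⟩ : Fin n) else i
  have hf : Set.InjOn f S := by
    intro i hi j hj hij
    simp only [f, dif_pos (Finset.mem_coe.mp hi), dif_pos (Finset.mem_coe.mp hj)] at hij
    have := e.injective (Subtype.ext hij)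
    exact congrArg Subtype.val this
  obtain ⟨h, hh, hext⟩ := exists_even_extend S f hf (fx_add_two_le hb)
  refine ⟨h, hh, ?_⟩
  show S.card ≤ _
  unfold fx
  apply Finset.card_le_card_of_injOn (fun s => h s)
  · intro s hs
    have hs' : s ∈ S := hs
    rw [Finset.mem_coe, mem_fx_iff, Perm.mul_apply, conj_apply_of_eq h b rfl]
    have hbs : b s = s := (mem_fx_iff b s).mp hs'
    show a (h (b s)) = h s
    rw [hbs, hext s hs']
    have : f s ∈ T := hT'sub (by simp only [f, dif_pos hs']; exact (e ⟨s, hs'⟩).2)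
    exact (mem_fx_iff a _).mp this
  · exact fun x _ y _ hxy => h.injective hxy

set_option linter.unusedSimpArgs false in
lemma injOn_three {α : Type*} [DecidableEq α] {p q r p' q' r' : α} (hpq : p ≠ q) (hpr : p ≠ r)
    (hqr : q ≠ r) (hpq' : p' ≠ q') (hpr' : p' ≠ r') (hqr' : q' ≠ r') :
    Set.InjOn (fun i => if i = p then p' else if i = q then q' else r')
      (({p, q, r} : Finset α) : Set α) := by
  intro i hi j hj hij
  simp only [coe_insert, coe_singleton, Set.mem_insert_iff, Set.mem_singleton_iff] at hi hj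
  rcases hi with rfl | rfl | rfl <;> rcases hj with rfl | rfl | rfl <;>
    first
    | rfl
    | (exfalso
       simp [hpq, hpr, hqr, hpq.symm, hpr.symm, hqr.symm, hpq', hpr', hqr', hpq'.symm, hpr'.symm,
         hqr'.symm] at hij)

set_option linter.unusedSimpArgs false in
lemma injOn_four {α : Type*} [DecidableEq α] {p q r s p' q' r' s' : α} (hpq : p ≠ q) (hpr : p ≠ r)
    (hps : p ≠ s) (hqr : q ≠ r) (hqs : q ≠ s) (hrs : r ≠ s)
    (hpq' : p' ≠ q') (hpr' : p' ≠ r') (hps' : p' ≠ s') (hqr' : q' ≠ r') (hqs' : q' ≠ s')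
    (hrs' : r' ≠ s') :
    Set.InjOn (fun i => if i = p then p' else if i = q then q' else if i = r then r' else s')
      (({p, q, r, s} : Finset α) : Set α) := by
  intro i hi j hj hij
  simp only [coe_insert, coe_singleton, Set.mem_insert_iff, Set.mem_singleton_iff] at hi hj
  rcases hi with rfl | rfl | rfl | rfl <;> rcases hj with rfl | rfl | rfl | rfl <;>
    first
    | rfl
    | (exfalso
       simp [hpq, hpr, hps, hqr, hqs, hrs, hpq.symm, hpr.symm, hps.symm, hqr.symm, hqs.symm,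
         hrs.symm, hpq', hpr', hps', hqr', hqs', hrs', hpq'.symm, hpr'.symm, hps'.symm,
         hqr'.symm, hqs'.symm, hrs'.symm] at hij)

lemma exists_moved {σ : Perm (Fin n)} (hσ : σ ≠ 1) : ∃ x, σ x ≠ x := by
  by_contra hcon
  push Not at hcon
  exact hσ (Equiv.ext hcon)

lemma moved_apply {σ : Perm (Fin n)} {x : Fin n} (hx : σ x ≠ x) : σ (σ x) ≠ σ x :=
  fun h => hx (σ.injective h)

/-- a common fixed point and one more agreement -/
lemma config_fixed_plus (hn : 5 ≤ n) (a b : Perm (Fin n)) {za zb : Fin n} (hza : a za = za)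
    (hzb : b zb = zb) (ha : a ≠ 1) (hb : b ≠ 1) :
    ∃ h : Perm (Fin n), h ∈ alternatingGroup (Fin n) ∧ 2 ≤ fx (a * (h * b * h⁻¹)) := by
  classical
  obtain ⟨u, hu⟩ := exists_moved ha
  obtain ⟨y, hy⟩ := exists_moved hb
  have h1 : zb ≠ y := fun h => hy (h ▸ hzb)
  have h2 : zb ≠ b y := by
    intro h
    apply hy
    apply b.injective
    rw [← h, hzb]
  have h3 : y ≠ b y := fun h => hy h.symm
  have k1 : za ≠ a u := by
    intro h
    apply hu
    apply a.injective
    rw [← h, hza]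
  have k2 : za ≠ u := fun h => hu (h ▸ hza)
  obtain ⟨h, hh, hext⟩ := exists_even_extend ({zb, y, b y} : Finset (Fin n))
    (fun i => if i = zb then za else if i = y then a u else u)
    (injOn_three h1 h2 h3 k1 k2 hu)
    (by have := Finset.card_le_three (a := zb) (b := y) (c := b y); omega)
  have e1 : h zb = za := by rw [hext zb (by simp)]; simp
  have e2 : h y = a u := by rw [hext y (by simp)]; simp [h1.symm]
  have e3 : h (b y) = u := by rw [hext (b y) (by simp)]; simp [h2.symm, h3.symm]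
  refine ⟨h, hh, two_le_fx (x := za) (y := a u) k1 ?_ ?_⟩
  · rw [Perm.mul_apply, conj_apply_of_eq h b e1, hzb, e1, hza]
  · rw [Perm.mul_apply, conj_apply_of_eq h b e2, e3]

/-- two agreements along long cycles -/
lemma double_of_long (hn : 5 ≤ n) (a b : Perm (Fin n)) {u y : Fin n} (hu : a (a u) ≠ u)
    (hy : b (b y) ≠ y) :
    ∃ h : Perm (Fin n), h ∈ alternatingGroup (Fin n) ∧ 2 ≤ fx (a * (h * b * h⁻¹)) := by
  classical
  have h1 : y ≠ b y := by
    intro h
    apply hy
    rw [← h, ← h]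
  have h3 : b y ≠ b (b y) := fun h => h1 (b.injective h)
  have k1 : a (a u) ≠ a u := by
    intro h
    have := a.injective h
    apply hu
    rw [this, this]
  have k3 : a u ≠ u := by
    intro h
    apply hu
    rw [h, h]
  obtain ⟨h, hh, hext⟩ := exists_even_extend ({y, b y, b (b y)} : Finset (Fin n))
    (fun i => if i = y then a (a u) else if i = b y then a u else u)
    (injOn_three h1 (Ne.symm hy) h3 k1 hu k3)
    (by have := Finset.card_le_three (a := y) (b := b y) (c := b (b y)); omega)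
  have e1 : h y = a (a u) := by rw [hext y (by simp)]; simp
  have e2 : h (b y) = a u := by rw [hext (b y) (by simp)]; simp [h1.symm]
  have e3 : h (b (b y)) = u := by rw [hext (b (b y)) (by simp)]; simp [hy, h3.symm]
  refine ⟨h, hh, two_le_fx (x := a (a u)) (y := a u) k1 ?_ ?_⟩
  · rw [Perm.mul_apply, conj_apply_of_eq h b e1, e2]
  · rw [Perm.mul_apply, conj_apply_of_eq h b e2, e3]

lemma mem_moved_iff (σ : Perm (Fin n)) (x : Fin n) :
    x ∈ (univ.filter fun x => ¬ σ x = x) ↔ σ x ≠ x := by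
  rw [mem_filter]; simp

/-- two agreements on disjoint edges, parity repaired by a transposition commuting with `b` -/
lemma double_of_swap (a b : Perm (Fin n)) {y₁ : Fin n} (hy1 : b y₁ ≠ y₁) (hy2 : b (b y₁) = y₁)
    (ha4 : 4 ≤ n - fx a) (hb4 : 4 ≤ n - fx b) :
    ∃ h : Perm (Fin n), h ∈ alternatingGroup (Fin n) ∧ 2 ≤ fx (a * (h * b * h⁻¹)) := by
  classical
  have hMa := moved_card a
  have hMb := moved_card b
  obtain ⟨u₁, hu1⟩ : ∃ u, a u ≠ u := by
    have : 0 < (univ.filter fun x => ¬ a x = x).card := by omega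
    obtain ⟨u, hu⟩ := Finset.card_pos.mp this
    exact ⟨u, (mem_moved_iff a u).mp hu⟩
  obtain ⟨u₂, hu2m, hu2n⟩ := Finset.exists_mem_notMem_of_card_lt_card
    (s := ({u₁, a u₁, a⁻¹ u₁} : Finset (Fin n))) (t := univ.filter fun x => ¬ a x = x)
    (by have := Finset.card_le_three (a := u₁) (b := a u₁) (c := a⁻¹ u₁); omega)
  obtain ⟨y₂, hy2m, hy2n⟩ := Finset.exists_mem_notMem_of_card_lt_card
    (s := ({y₁, b y₁} : Finset (Fin n))) (t := univ.filter fun x => ¬ b x = x)
    (by have := Finset.card_le_two (a := y₁) (b := b y₁); omega)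
  rw [mem_moved_iff] at hu2m hy2m
  simp only [mem_insert, mem_singleton, not_or] at hu2n hy2n
  obtain ⟨n1, n2, n3⟩ := hu2n
  obtain ⟨m1, m2⟩ := hy2n
  -- sources
  have s12 : y₁ ≠ b y₁ := fun h => hy1 h.symm
  have s13 : y₁ ≠ y₂ := fun h => m1 h.symm
  have s14 : y₁ ≠ b y₂ := by
    intro h
    apply m2
    apply b.injective
    rw [hy2, h]
  have s23 : b y₁ ≠ y₂ := fun h => m2 h.symm
  have s24 : b y₁ ≠ b y₂ := fun h => s13 (b.injective h)
  have s34 : y₂ ≠ b y₂ := fun h => hy2m h.symm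
  -- targets
  have t13 : a u₁ ≠ a u₂ := fun h => n1 (a.injective h).symm
  have t14 : a u₁ ≠ u₂ := fun h => n2 h.symm
  have t23 : u₁ ≠ a u₂ := by
    intro h
    apply n3
    rw [h]; simp
  have t24 : u₁ ≠ u₂ := fun h => n1 h.symm
  obtain ⟨σ, hext⟩ := exists_perm_extend ({y₁, b y₁, y₂, b y₂} : Finset (Fin n))
    (fun i => if i = y₁ then a u₁ else if i = b y₁ then u₁ else if i = y₂ then a u₂ else u₂)
    (injOn_four s12 s13 s14 s23 s24 s34 hu1 t13 t14 t23 t24 hu2m)
  have e1 : σ y₁ = a u₁ := by rw [hext y₁ (by simp)]; simp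
  have e2 : σ (b y₁) = u₁ := by rw [hext (b y₁) (by simp)]; simp [s12.symm]
  have e3 : σ y₂ = a u₂ := by rw [hext y₂ (by simp)]; simp [s13.symm, s23.symm]
  have e4 : σ (b y₂) = u₂ := by
    rw [hext (b y₂) (by simp)]; simp [s14.symm, s24.symm, s34.symm]
  have key : 2 ≤ fx (a * (σ * b * σ⁻¹)) := by
    refine two_le_fx (x := a u₁) (y := a u₂) t13 ?_ ?_
    · rw [Perm.mul_apply, conj_apply_of_eq σ b e1, e2]
    · rw [Perm.mul_apply, conj_apply_of_eq σ b e3, e4]
  rcases Int.units_eq_one_or (Equiv.Perm.sign σ) with hs | hs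
  · exact ⟨σ, hs, key⟩
  · refine ⟨σ * Equiv.swap y₁ (b y₁), ?_, ?_⟩
    · rw [Equiv.Perm.mem_alternatingGroup, Equiv.Perm.sign_mul, hs, Equiv.Perm.sign_swap s12]
      rfl
    · have htb : b * Equiv.swap y₁ (b y₁) = Equiv.swap y₁ (b y₁) * b := by
        rw [Equiv.mul_swap_eq_swap_mul, hy2, Equiv.swap_comm]
      have : σ * Equiv.swap y₁ (b y₁) * b * (σ * Equiv.swap y₁ (b y₁))⁻¹ = σ * b * σ⁻¹ := by
        rw [mul_inv_rev, mul_assoc σ, ← htb]
        group
      rw [this]
      exact key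

/-- two agreements for permutations with at least four moved points each -/
lemma config_double (hn : 5 ≤ n) (a b : Perm (Fin n))
    (ha4 : 4 ≤ n - fx a) (hb4 : 4 ≤ n - fx b) :
    ∃ g h : Perm (Fin n), g ∈ alternatingGroup (Fin n) ∧ h ∈ alternatingGroup (Fin n) ∧
      2 ≤ fx (g * a * g⁻¹ * (h * b * h⁻¹)) := by
  classical
  have one_mem : (1 : Perm (Fin n)) ∈ alternatingGroup (Fin n) := Subgroup.one_mem _
  by_cases hb2 : ∃ y, b y ≠ y ∧ b (b y) = y
  · obtain ⟨y, hy1, hy2⟩ := hb2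
    obtain ⟨h, hh, hk⟩ := double_of_swap a b hy1 hy2 ha4 hb4
    exact ⟨1, h, one_mem, hh, by simpa using hk⟩
  by_cases ha2 : ∃ u, a u ≠ u ∧ a (a u) = u
  · obtain ⟨u, hu1, hu2⟩ := ha2
    obtain ⟨g, hg, hk⟩ := double_of_swap b a hu1 hu2 hb4 ha4
    refine ⟨g, 1, hg, one_mem, ?_⟩
    rw [fx_mul_comm]
    simpa using hk
  · push Not at hb2 ha2
    have hMa := moved_card a
    have hMb := moved_card b
    obtain ⟨u, hu⟩ : ∃ u, a u ≠ u := by
      have : 0 < (univ.filter fun x => ¬ a x = x).card := by omega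
      obtain ⟨u, hu⟩ := Finset.card_pos.mp this
      exact ⟨u, (mem_moved_iff a u).mp hu⟩
    obtain ⟨y, hy⟩ : ∃ y, b y ≠ y := by
      have : 0 < (univ.filter fun x => ¬ b x = x).card := by omega
      obtain ⟨y, hy⟩ := Finset.card_pos.mp this
      exact ⟨y, (mem_moved_iff b y).mp hy⟩
    obtain ⟨h, hh, hk⟩ := double_of_long hn a b (ha2 u hu) (hb2 y hy)
    exact ⟨1, h, one_mem, hh, by simpa using hk⟩

end Cfsg.Agent.Lib.Helper5.PermFix
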