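import Cfsg.Agent.Lib.Helper5.Perm.FixConfig

/-!
# The number of fixed points is not constant on a product of two `A_n`-classes of `S_n`
-/

set_option autoImplicit false

namespace Cfsg.Agent.Lib.Helper5.PermFix

open Equiv Finset

theorem class_product_fix (n : ℕ) (hn : 5 ≤ n) (a b : Equiv.Perm (Fin n)) (ha : a ≠ 1)
    (hb : b ≠ 1) :
    ∃ g₁ h₁ g₂ h₂ : Equiv.Perm (Fin n), g₁ ∈ alternatingGroup (Fin n) ∧
      h₁ ∈ alternatingGroup (Fin n) ∧ g₂ ∈ alternatingGroup (Fin n) ∧
      h₂ ∈ alternatingGroup (Fin n) ∧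
      Nat.card (Function.fixedPoints ⇑(g₁ * a * g₁⁻¹ * (h₁ * b * h₁⁻¹))) ≠
        Nat.card (Function.fixedPoints ⇑(g₂ * a * g₂⁻¹ * (h₂ * b * h₂⁻¹))) := by
  classical
  by_contra hcon
  push Not at hcon
  have one_mem : (1 : Perm (Fin n)) ∈ alternatingGroup (Fin n) := Subgroup.one_mem _
  set N := fx (a * b) with hN
  have P1 : ∀ g h : Perm (Fin n), g ∈ alternatingGroup (Fin n) → h ∈ alternatingGroup (Fin n) →
      fx (g * a * g⁻¹ * (h * b * h⁻¹)) = N := by
    intro g h hg hh
    have := hcon g h 1 1 hg hh one_mem one_mem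
    rw [card_fixedPoints, card_fixedPoints] at this
    simpa using this
  have P2 : N * (n * (n - 1)) = fx a * fx b * (n - 1) + (n - fx a) * (n - fx b) := by
    have havg := avg (by omega : 4 ≤ n) a b
    have hconst : ∀ h : An n, fx (a * ((h : Perm (Fin n)) * b * (h : Perm (Fin n))⁻¹)) = N := by
      intro h
      have := P1 1 h one_mem h.2
      simpa using this
    simp_rw [hconst] at havg
    rw [Finset.sum_const, Finset.card_univ, smul_eq_mul, mul_assoc] at havg
    exact Nat.eq_of_mul_eq_mul_left Fintype.card_pos havg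
  have hpa := fx_add_two_le ha
  have hpb := fx_add_two_le hb
  have hza : ∀ c : Perm (Fin n), 1 ≤ fx c → ∃ z, c z = z := by
    intro c h
    unfold fx at h
    obtain ⟨z, hz⟩ := Finset.card_pos.mp h
    exact ⟨z, (mem_fx_iff c z).mp hz⟩
  -- the case of no fixed points
  have hzero : ∀ q : ℕ, q + 2 ≤ n → N * (n * (n - 1)) = n * (n - q) → q = 1 ∧ N = 1 := by
    intro q hq E
    have E2 : n * (N * (n - 1)) = n * (n - q) := by rw [← E]; ring
    have E3 := Nat.eq_of_mul_eq_mul_left (by omega : 0 < n) E2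
    rcases N with _ | _ | N
    · omega
    · omega
    · exfalso
      have : (N + 1 + 1) * (n - 1) = N * (n - 1) + 2 * (n - 1) := by ring
      omega
  -- integer form of P2
  have E : (N : ℤ) * (n * (n - 1)) = fx a * fx b * (n - 1) + (n - fx a) * (n - fx b) := by
    have : ((N * (n * (n - 1)) : ℕ) : ℤ)
        = ((fx a * fx b * (n - 1) + (n - fx a) * (n - fx b) : ℕ) : ℤ) := by rw [P2]
    push_cast [Nat.cast_sub (by omega : 1 ≤ n), Nat.cast_sub (by omega : fx a ≤ n),
      Nat.cast_sub (by omega : fx b ≤ n)] at this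
    exact this
  have hn5 : (5 : ℤ) ≤ n := by exact_mod_cast hn
  have hnpos : (0 : ℤ) < n * (n - 1) := by nlinarith
  by_cases ha0 : fx a = 0
  · rw [ha0] at P2
    obtain ⟨hb1, hN1⟩ := hzero (fx b) hpb (by rw [P2]; simp)
    obtain ⟨g, h, hg, hh, hk⟩ := config_double hn a b (by omega) (by omega)
    rw [P1 g h hg hh] at hk
    omega
  by_cases hb0 : fx b = 0
  · rw [hb0] at P2
    obtain ⟨ha1, hN1⟩ := hzero (fx a) hpa (by rw [P2]; simp [Nat.mul_comm])
    obtain ⟨g, h, hg, hh, hk⟩ := config_double hn a b (by omega) (by omega)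
    rw [P1 g h hg hh] at hk
    omega
  obtain ⟨za, hza'⟩ := hza a (by omega)
  obtain ⟨zb, hzb'⟩ := hza b (by omega)
  by_cases h1 : fx a = 1 ∨ fx b = 1
  · have hN1 : N = 1 := by
      have key : (N : ℤ) * (n * (n - 1)) = 1 * (n * (n - 1)) := by
        rw [E]
        rcases h1 with h1 | h1
        · rw [h1]; push_cast; ring
        · rw [h1]; push_cast; ring
      have := mul_right_cancel₀ (ne_of_gt hnpos) key
      exact_mod_cast this
    obtain ⟨h, hh, hk⟩ := config_fixed_plus hn a b hza' hzb' ha hb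
    have := P1 1 h one_mem hh
    simp only [one_mul, inv_one, mul_one] at this
    rw [this] at hk
    omega
  · push Not at h1
    have hp2 : 2 ≤ fx a := by omega
    have hq2 : 2 ≤ fx b := by omega
    have hbig : ∀ p q : ℤ, 2 ≤ q → q ≤ p → p + 2 ≤ n → q ≤ N →
        (N : ℤ) * (n * (n - 1)) = p * q * (n - 1) + (n - p) * (n - q) → False := by
      intro p q hq2 hqp hp hN E
      have hn1 : (0 : ℤ) ≤ n * (n - 1) := by
        have : (5 : ℤ) ≤ n := by exact_mod_cast hn
        nlinarith
      have h1 : q * ((n : ℤ) * (n - 1)) ≤ N * (n * (n - 1)) :=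
        mul_le_mul_of_nonneg_right hN hn1
      have h2 : 0 < ((n : ℤ) - p) * (n * (q - 1)) := by
        have : (5 : ℤ) ≤ n := by exact_mod_cast hn
        apply mul_pos (by linarith)
        apply mul_pos (by linarith) (by linarith)
      have h3 : ((n : ℤ) - p) * (n * (q - 1))
          = q * (n * (n - 1)) - p * q * (n - 1) - (n - p) * (n - q) := by ring
      linarith
    rcases le_total (fx b) (fx a) with hle | hle
    · obtain ⟨h, hh, hk⟩ := config_nested a b hb hle
      have := P1 1 h one_mem hh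
      simp only [one_mul, inv_one, mul_one] at this
      rw [this] at hk
      exact hbig (fx a) (fx b) (by exact_mod_cast hq2) (by exact_mod_cast hle)
        (by exact_mod_cast hpa) (by exact_mod_cast hk) E
    · obtain ⟨g, hg, hk⟩ := config_nested b a ha hle
      have := P1 g 1 hg one_mem
      simp only [one_mul, inv_one, mul_one] at this
      rw [fx_mul_comm, this] at hk
      exact hbig (fx b) (fx a) (by exact_mod_cast hp2) (by exact_mod_cast hle)
        (by exact_mod_cast hpb) (by exact_mod_cast hk) (by rw [E]; ring)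

end Cfsg.Agent.Lib.Helper5.PermFix
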